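import Cfsg.Agent.Spor.LyMca.L.D0

set_option autoImplicit false
set_option maxRecDepth 100000000
set_option Elab.async false

namespace Cfsg.Agent.Spor.LyMca.L

theorem uok4 : Net.okb 13 un4 = true := by decide +kernel

theorem rel3 : U.rel 13 [9, 2, 6, 4, 8] 0 13 = true := by decide +kernel

theorem rel4 : U.rel 13 [9, 9, 9, 9, 9, 9, 9, 9, 9, 9, 9] 0 13 = true := by decide +kernel

theorem gr6 : sub M5 (U.growI W1 [3, 2, 1, 0, 0, 1, 2, 3, 3, 2, 1, 0, 0, 1, 2, 3, 3, 2, 1, 0, 0, 1, 2, 3, 3] (Nat.shiftLeft 1 0)) = true := by decide +kernel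

theorem cl8 : band (U.closedW W1 M5) (sub (Nat.shiftLeft 1 0) M5) = true := by decide +kernel

theorem sz9 : sizeOk 13 M5 7128 = true := by decide +kernel

theorem fx12 : U.closedW W11 (Nat.shiftLeft 1 0) = true := by decide +kernel

theorem uok5 : Net.okb 13 un5 = true := by decide +kernel

theorem rel13 : U.rel 13 [11, 1, 1, 1, 3, 1, 1, 5, 5, 1, 1, 3, 3, 3, 3, 1] 0 13 = true := by decide +kernel

theorem uok6 : Net.okb 13 un6 = true := by decide +kernel

theorem rel14 : U.rel 13 [13, 3, 1, 5, 3, 3, 5, 3, 1, 1, 5, 3, 1, 3, 3, 5, 3, 5, 1, 3, 5, 3, 3, 3, 5, 3, 1, 3] 0 13 = true := by decide +kernel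

theorem gr16 : sub M15 (U.growI W11 [0, 1, 2, 2, 1, 0, 0, 1, 2, 2, 1, 0, 0, 1, 2, 2, 1, 0, 0, 1, 2] (Nat.shiftLeft 1 6)) = true := by decide +kernel

theorem cl18 : band (U.closedW W11 M15) (sub (Nat.shiftLeft 1 6) M15) = true := by decide +kernel

theorem sz19 : sizeOk 13 M15 3500 = true := by decide +kernel

theorem fx22 : U.closedW W21 (Nat.shiftLeft 1 6) = true := by decide +kernel

theorem gr24 : sub M23 (U.growI W21 [0, 1, 1, 0, 1, 1, 0, 1, 1, 0] (Nat.shiftLeft 1 5)) = true := by decide +kernel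

theorem cl26 : band (U.closedW W21 M23) (sub (Nat.shiftLeft 1 5) M23) = true := by decide +kernel

theorem sz27 : sizeOk 13 M23 36 = true := by decide +kernel

end Cfsg.Agent.Spor.LyMca.L
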