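import Cfsg.Agent.Spor.Prim
import Cfsg.Agent.Spor.LyMca.Main
import Cfsg.Agent.Spor.LyMca.L.C0
import Cfsg.Agent.Spor.TT2

set_option autoImplicit false
set_option maxRecDepth 100000000
set_option Elab.async false

namespace Cfsg.Agent.Spor.LyMca.L

theorem hU : U.Ok 13 := U.ok_of 13 (show AllP (fun n => Net.okb 13 n = true) [n0, n1, n2, n3, un4, un5, un6] from AllP.cons ok0 (AllP.cons ok1 (AllP.cons ok2 (AllP.cons ok3 (AllP.cons uok4 (AllP.cons uok5 (AllP.cons uok6 (AllP.nil))))))))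

theorem hfP : ∀ j < 4, U.fP [1, 3, 5, 7] j = fP j := by
  intro j hj
  interval_cases j <;> rfl
theorem eG : gsub 4 fP = U.lsub W1 := (gsub_congr hfP).symm.trans (lsub_eq_gsub U [1, 3, 5, 7])
theorem upz1 : ev (atm 4 fP) [0] = U.τ 1 := pz1
theorem upz3 : ev (atm 4 fP) [2] = U.τ 3 := pz2
theorem upz5 : ev (atm 4 fP) [4] = U.τ 5 := pz3
theorem upz7 : ev (atm 4 fP) [6] = U.τ 7 := pz4
theorem eH : wsub 4 fP BW = U.lsub W2 :=
  lsub_eq_of_all₂ (show List.Forall₂ _ [[2], [4]] [[3], [5]] from List.Forall₂.cons (upz3.trans (one_mul _).symm) (List.Forall₂.cons (upz5.trans (one_mul _).symm) (List.Forall₂.nil)))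
theorem vpz1 : PZ U (atm 4 fP) EXU 1 := pz1
theorem vpz2 : PZ U (atm 4 fP) EXU 2 := PZ.of_inv hiv vpz1 (by decide +kernel)
theorem vpz3 : PZ U (atm 4 fP) EXU 3 := pz2
theorem vpz4 : PZ U (atm 4 fP) EXU 4 := PZ.of_inv hiv vpz3 (by decide +kernel)
theorem vpz5 : PZ U (atm 4 fP) EXU 5 := pz3
theorem vpz6 : PZ U (atm 4 fP) EXU 6 := PZ.of_inv hiv vpz5 (by decide +kernel)
theorem vpz7 : PZ U (atm 4 fP) EXU 7 := pz4
theorem vpz8 : PZ U (atm 4 fP) EXU 8 := PZ.of_inv hiv vpz7 (by decide +kernel)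
theorem vpz9 : PZ U (atm 4 fP) EXU 9 := PZ.of_def hiv (d := [2, 6, 4, 8]) (AllP.cons vpz2 (AllP.cons vpz6 (AllP.cons vpz4 (AllP.cons vpz8 (AllP.nil))))) (hU.one rel3) (by decide +kernel)
theorem vpz10 : PZ U (atm 4 fP) EXU 10 := PZ.of_inv hiv vpz9 (by decide +kernel)
theorem hPZU : AllP (PZ U (atm 4 fP) EXU) LU :=
  show AllP (PZ U (atm 4 fP) EXU) [1, 2, 3, 4, 5, 6, 7, 8, 9, 10] from AllP.cons vpz1 (AllP.cons vpz2 (AllP.cons vpz3 (AllP.cons vpz4 (AllP.cons vpz5 (AllP.cons vpz6 (AllP.cons vpz7 (AllP.cons vpz8 (AllP.cons vpz9 (AllP.cons vpz10 (AllP.nil))))))))))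
theorem hX11 : ∀ l ∈ X11, ev (atm 4 fP) l = 1 :=
  relAll_sound hiv (W := [[9, 9, 9, 9, 9, 9, 9, 9, 9, 9, 9]]) (rules := [⟨[9, 9, 9, 9, 9, 9, 9, 9, 9, 9, 9], [], 0, true⟩]) hPZU (AllP.cons (hU.one rel4) (AllP.nil)) (by decide +kernel)
theorem reach7 : Reach (U.lsub W1) 0 M5 := (Reach.grow hU (Reach.base _ 0) gr6)
theorem orb10 : (orbS (U.lsub W1) 0).ncard = 7128 := reach7.ncard hU cl8 sz9
theorem orb10e : orbS (U.lsub W1) 0 = {c | Nat.testBit M5 c = true} := reach7.orb hU cl8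
theorem reach17 : Reach (U.lsub W11) 6 M15 := (Reach.grow hU (Reach.base _ 6) gr16)
theorem orb20 : (orbS (U.lsub W11) 6).ncard = 3500 := reach17.ncard hU cl18 sz19
theorem orb20e : orbS (U.lsub W11) 6 = {c | Nat.testBit M15 c = true} := reach17.orb hU cl18
theorem reach25 : Reach (U.lsub W21) 5 M23 := (Reach.grow hU (Reach.base _ 5) gr24)
theorem orb28 : (orbS (U.lsub W21) 5).ncard = 36 := reach25.ncard hU cl26 sz27
theorem orb28e : orbS (U.lsub W21) 5 = {c | Nat.testBit M23 c = true} := reach25.orb hU cl26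
theorem lb29 : 36 ∣ Nat.card (U.lsub W21) := dvd_card_orb orb28
theorem lb30 : 126000 ∣ Nat.card (U.lsub W11) :=
  dvd_card_step (s := 3500) (M := 36) (B := U.lsub W21) (Tab.lsub_le_all (AllP.cons (mem_of_rel (hU.one rel13) (U.mem_letters (by decide))) (AllP.cons (mem_of_rel (hU.one rel14) (U.mem_letters (by decide))) (AllP.nil)))) (hU.fixes fx22) orb20 lb29
theorem lb : 898128000 ∣ Nat.card (U.lsub W1) :=
  dvd_card_step (s := 7128) (M := 126000) (B := U.lsub W11) (U.lsub_sub (by decide)) (hU.fixes fx12) orb10 lb30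

end Cfsg.Agent.Spor.LyMca.L
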